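import Groth.Agent.WLocalLib.FiniteContr
import Groth.Agent.ProEtWC.Covers
import Mathlib.AlgebraicGeometry.Morphisms.Finite
import Mathlib.CategoryTheory.Abelian.Exact

/-!
# Exactness of pushforward along finite morphisms on pro-étale sites
-/

set_option autoImplicit false
set_option linter.style.haveILetI false
set_option backward.isDefEq.respectTransparency false
set_option backward.isDefEq.respectTransparency.types false
set_option maxHeartbeats 1000000
universe u

namespace Groth.Agent.ProEtPushLib

open CategoryTheory Limits AlgebraicGeometry Opposite Topology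

/-- A quotient of a w-contractible ring by a nil ideal is w-contractible. -/
theorem isWContractible_of_surjective_nil {A B : Type u} [CommRing A] [CommRing B] (f : A →+* B)
    (hf : Function.Surjective f) (hnil : RingHom.ker f ≤ nilradical A) (h : EtPBC.IsWContractible A) :
    EtPBC.IsWContractible B := by
  obtain ⟨hW, hE, hs⟩ := WLocalLib.isWContractible_iff.1 h
  refine WLocalLib.isWContractible_iff.2 ?_
  have hemb := PrimeSpectrum.isClosedEmbedding_comap_of_surjective B f hf
  have hsurj : Function.Surjective (PrimeSpectrum.comap f) := by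
    rw [← Set.range_eq_univ, range_comap_of_surjective B f hf, PrimeSpectrum.zeroLocus_eq_univ_iff]
    exact hnil
  let e : PrimeSpectrum B ≃ₜ PrimeSpectrum A := hemb.isEmbedding.toHomeomorphOfSurjective hsurj
  have hcl : ∀ x, IsClosed ({x} : Set (PrimeSpectrum B)) ↔ IsClosed ({e x} : Set (PrimeSpectrum A)) := fun x => by
    rw [← Set.image_singleton, e.isClosed_image]
  refine ⟨⟨inferInstance, ?_, fun x => ?_⟩, ?_, fun m hm => ?_⟩
  · simp only [hcl]
    exact hW.2.1.preimage e.continuous
  · obtain ⟨y, ⟨hy1, hy2⟩, huniq⟩ := hW.2.2 (e x)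
    refine ⟨e.symm y, ⟨?_, ?_⟩, fun z ⟨hz1, hz2⟩ => ?_⟩
    · rw [hcl, e.apply_symm_apply]; exact hy1
    · simpa using hy2.map e.symm.continuous
    · rw [← huniq (e z) ⟨(hcl z).1 hz1, hz2.map e.continuous⟩, e.symm_apply_apply]
  · haveI := hE
    refine extremallyDisconnected_of_homeo (X := _root_.ConnectedComponents (PrimeSpectrum A))
      { toFun := e.symm.continuous.connectedComponentsMap
        invFun := e.continuous.connectedComponentsMap
        left_inv := fun c => by
          obtain ⟨a, rfl⟩ := ConnectedComponents.surjective_coe c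
          simp
        right_inv := fun c => by
          obtain ⟨a, rfl⟩ := ConnectedComponents.surjective_coe c
          simp
        continuous_toFun := e.symm.continuous.connectedComponentsMap_continuous
        continuous_invFun := e.continuous.connectedComponentsMap_continuous }
  · let p := m.comap f
    haveI : p.IsMaximal := Ideal.comap_isMaximal_of_surjective f hf
    let φ := Localization.localRingHom p m f rfl
    letI : Algebra (Localization.AtPrime p) (Localization.AtPrime m) := φ.toAlgebra
    haveI : Module.Finite (Localization.AtPrime p) (Localization.AtPrime m) := by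
      refine Module.Finite.of_surjective (Algebra.linearMap (Localization.AtPrime p) (Localization.AtPrime m)) fun z => ?_
      obtain ⟨b, ⟨s, hs'⟩, rfl⟩ := IsLocalization.exists_mk'_eq m.primeCompl z
      obtain ⟨b', rfl⟩ := hf b
      obtain ⟨s', rfl⟩ := hf s
      exact ⟨IsLocalization.mk' _ b' (⟨s', hs'⟩ : p.primeCompl), Localization.localRingHom_mk' p m f rfl b' ⟨s', hs'⟩⟩
    exact WLocalLib.isStrictlyHenselian_of_finite (Localization.AtPrime p) (hs p) (Localization.AtPrime m)

variable {Z X : Scheme.{u}} (f : Z ⟶ X)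

/-- Base changes of w-contractible affine objects are w-contractible. -/
def BCContr : Prop :=
  ∀ (W : Scheme.{u}) (q : W ⟶ X), IsAffine W → EtPBC.IsWContractible ↥(Γ(W, ⊤)) →
    IsAffine (pullback q f) ∧ EtPBC.IsWContractible ↥(Γ(pullback q f, ⊤))

theorem bcContr_of_finite [IsFinite f] [LocallyOfFinitePresentation f] : BCContr f := by
  intro W q hU hwc
  haveI := hU
  let g := pullback.fst q f
  haveI : IsAffine (pullback q f) := isAffine_of_isAffineHom g
  refine ⟨inferInstance, ?_⟩
  letI : Algebra ↥(Γ(W, ⊤)) ↥(Γ(pullback q f, ⊤)) := g.appTop.hom.toAlgebra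
  haveI : IsFinite g := inferInstance
  haveI : Module.Finite ↥(Γ(W, ⊤)) ↥(Γ(pullback q f, ⊤)) := g.finite_appTop
  haveI : Algebra.FinitePresentation ↥(Γ(W, ⊤)) ↥(Γ(pullback q f, ⊤)) :=
    (HasRingHomProperty.iff_of_isAffine (P := @LocallyOfFinitePresentation) (f := g)).1 inferInstance
  exact WLocalLib.isWContractible_of_finite _ _ hwc

theorem bcContr_of_closedImmersion [IsClosedImmersion f] (hr : IsRetrocompact (Set.range f.base)ᶜ) : BCContr f := by
  intro W q hU hwc
  haveI := hU
  let g := pullback.fst q f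
  haveI : IsClosedImmersion g := inferInstance
  haveI : IsAffine (pullback q f) := isAffine_of_isAffineHom g
  refine ⟨inferInstance, ?_⟩
  -- the complement is quasi-compact
  let O : X.Opens := ⟨(Set.range f.base)ᶜ, f.isClosedEmbedding.isClosed_range.isOpen_compl⟩
  haveI : QuasiCompact O.ι := by
    refine quasiCompact_iff_forall_isAffineOpen.2 fun V hV => ?_
    have h1 := hr hV.isCompact V.2
    rw [O.ι.isOpenEmbedding.isInducing.isCompact_iff, Set.inter_comm] at *
    refine (congrArg IsCompact ?_).mpr h1
    show Subtype.val '' (Subtype.val ⁻¹' (V : Set X)) = _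
    exact (Subtype.image_preimage_coe _ _).trans (Set.inter_comm _ _)
  have hK : IsCompact (q.base ⁻¹' (Set.range f.base)ᶜ) := by
    haveI : CompactSpace ↥(pullback q O.ι) := QuasiCompact.compactSpace_of_compactSpace (pullback.fst q O.ι)
    have := isCompact_range (pullback.fst q O.ι).continuous
    rw [Scheme.Pullback.range_fst, Scheme.Opens.range_ι] at this
    exact this
  -- transfer to the spectrum
  let A := ↥(Γ(W, ⊤))
  let B := ↥(Γ(pullback q f, ⊤))
  let φ : A →+* B := g.appTop.hom
  have hφ : Function.Surjective φ := g.app_surjective ⊤ (isAffineOpen_top _)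
  have hrange : W.isoSpec.hom.base '' Set.range g.base = PrimeSpectrum.zeroLocus (RingHom.ker φ) := by
    have hcomm : ∀ x, W.isoSpec.hom.base (g.base x) = (Spec.map g.appTop).base ((pullback q f).isoSpec.hom.base x) :=
      fun x => congrArg (fun m : pullback q f ⟶ Spec Γ(W, ⊤) => m.base x) (Scheme.isoSpec_hom_naturality g).symm
    rw [← range_comap_of_surjective B φ hφ]
    ext y
    constructor
    · rintro ⟨_, ⟨x, rfl⟩, rfl⟩
      exact ⟨_, (hcomm x).symm⟩
    · rintro ⟨z, rfl⟩
      obtain ⟨x, rfl⟩ := ((pullback q f).isoSpec.hom.homeomorph).surjective z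
      exact ⟨_, ⟨x, rfl⟩, hcomm x⟩
  have hqc : IsCompact ((PrimeSpectrum.zeroLocus (RingHom.ker φ : Set A))ᶜ) := by
    rw [← hrange]
    refine (congrArg IsCompact (Set.image_compl_eq (f := ⇑W.isoSpec.hom.base)
      (W.isoSpec.hom.homeomorph).bijective)).mp ?_
    refine IsCompact.image ?_ W.isoSpec.hom.continuous
    rw [Scheme.Pullback.range_fst]
    exact hK
  obtain ⟨I, hI, hIz⟩ := PrimeSpectrum.isCompact_isOpen_iff_ideal.1 ⟨hqc, (PrimeSpectrum.isClosed_zeroLocus _).isOpen_compl⟩
  have hrad : I.radical = (RingHom.ker φ).radical :=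
    PrimeSpectrum.zeroLocus_eq_iff.1 (compl_injective hIz)
  obtain ⟨n, hn⟩ := Ideal.exists_pow_le_of_le_radical_of_fg (I := I) (J := RingHom.ker φ)
    (hrad ▸ Ideal.le_radical) hI
  haveI : Module.Finite A (A ⧸ I ^ n) := Module.Finite.of_surjective (Algebra.linearMap A (A ⧸ I ^ n))
    Ideal.Quotient.mk_surjective
  haveI : Algebra.FinitePresentation A (A ⧸ I ^ n) := Algebra.FinitePresentation.quotient (Submodule.FG.pow hI n)
  refine isWContractible_of_surjective_nil (Ideal.Quotient.lift (I ^ n) φ fun a ha => hn ha)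
    (fun b => ?_) ?_ (WLocalLib.isWContractible_of_finite A (A ⧸ I ^ n) hwc)
  · obtain ⟨a, rfl⟩ := hφ b
    exact ⟨Ideal.Quotient.mk _ a, rfl⟩
  · intro x hx
    obtain ⟨a, rfl⟩ := Ideal.Quotient.mk_surjective x
    have ha : a ∈ RingHom.ker φ := hx
    obtain ⟨m, hm⟩ := (show a ∈ I.radical from hrad ▸ Ideal.le_radical ha)
    refine ⟨m * n, ?_⟩
    rw [← map_pow, Ideal.zero_eq_bot, Ideal.mem_bot, Ideal.Quotient.eq_zero_iff_mem, pow_mul]
    exact Ideal.pow_mem_pow hm n

theorem surjective_of_epi_ab {X : Scheme.{u}} {F Q : ProEtS.AbP X} (p : F ⟶ Q) [Epi p] {U : X.ProEt}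
    (hU : ProEtS.IsWC U) : Function.Surjective (p.hom.app (op U)).hom := by
  haveI : Sheaf.IsLocallySurjective p := (Sheaf.isLocallySurjective_iff_epi' _ p).2 inferInstance
  let φ := (sheafCompose (Scheme.ProEt.topology X) (forget AddCommGrpCat.{u + 1})).map p
  haveI : Sheaf.IsLocallySurjective φ :=
    ⟨fun {V} z => GrothendieckTopology.superset_covering _ (fun W f hf => hf)
      (Presheaf.imageSieve_mem (Scheme.ProEt.topology X) p.hom z)⟩
  exact hU _ _ φ ((Sheaf.isLocallySurjective_iff_epi' _ φ).1 inferInstance)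

theorem preserves_pushP [ProEtS.PCont f] (h : BCContr f) :
    PreservesFiniteLimits (ProEtS.pushP f) ∧ PreservesFiniteColimits (ProEtS.pushP f) := by
  haveI : (ProEtS.pushP f).IsRightAdjoint := (ProEtS.pullPushAdjP f).isRightAdjoint
  haveI : PreservesFiniteLimits (ProEtS.pushP f) :=
    PreservesLimitsOfSize.preservesFiniteLimits.{0, 0} _
  haveI : (ProEtS.pushP f).PreservesEpimorphisms := ⟨fun {F G} p _ => by
    refine (Sheaf.isLocallySurjective_iff_epi' _ _).1 ⟨fun {U} s => ?_⟩
    obtain ⟨ι, V, g, hmem, hV⟩ := ProEtWC.exists_cover_wContractible U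
    refine GrothendieckTopology.superset_covering _ ?_ hmem
    rw [Sieve.generate_le_iff]
    rintro _ _ ⟨i⟩
    obtain ⟨hVa, hVc⟩ := hV i
    obtain ⟨haff, hwc⟩ := h (V i).left (V i).hom hVa hVc
    haveI : IsAffine ((ProEtS.bcP f).obj (V i)).left := haff
    obtain ⟨t, ht⟩ := surjective_of_epi_ab p (U := (ProEtS.bcP f).obj (V i))
      (ProEtWC.isWC_of_isWContractible hwc) (((ProEtS.pushP f).obj G).obj.map (g i).op s)
    exact ⟨t, ht⟩⟩
  haveI : (ProEtS.pushP f).PreservesHomology := Functor.preservesHomology_of_preservesEpis_and_kernels _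
  exact ⟨inferInstance, Functor.preservesFiniteColimits_of_preservesHomology _⟩

end Groth.Agent.ProEtPushLib
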